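import Cfsg.Agent.Lib.CoprimeMarks.Pair
import Cfsg.Agent.Lib.OddBase.Main
import Cfsg.Agent.Lib.Coprime85.Invariant
import Cfsg.Agent.S0205

/-!
Two-vector bases for coprime modules of solvable groups, from the odd order case and the odd
characteristic case.
-/

set_option autoImplicit false

namespace CfsgLib.CoprimeMarks

universe u

/-- Dolfi's theorem in odd characteristic, over a prime field. -/
def OddCharBase : Prop :=
  ∀ (q : ℕ) [Fact q.Prime], q ≠ 2 → ∀ (A V : Type u) [Group A] [Finite A] [Group.IsSolvable A]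
    [AddCommGroup V] [Finite V] [Module (ZMod q) V] (ρ : Representation (ZMod q) A V),
    Function.Injective ρ → (Nat.card A).Coprime (Nat.card V) →
      ∃ x y : V, ∀ g : A, ρ g x = x → ρ g y = y → g = 1

/-- Additive endomorphisms are linear over the prime field. -/
def toLin (q : ℕ) (V : Type u) [AddCommGroup V] [Module (ZMod q) V] :
    AddMonoid.End V →* Module.End (ZMod q) V where
  toFun f := AddMonoidHom.toZModLinearMap q (M := V) (M₁ := V) f
  map_one' := LinearMap.ext fun _ => rfl
  map_mul' _ _ := LinearMap.ext fun _ => rfl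

theorem toLin_apply (q : ℕ) (V : Type u) [AddCommGroup V] [Module (ZMod q) V]
    (f : AddMonoid.End V) (x : V) : toLin q V f x = f x := rfl

theorem baseTwo_of_odd {A : Type u} [Group A] [Finite A] (hA : Odd (Nat.card A)) : BaseTwo A := by
  intro q hq hqA V _ _ hexp ρ
  have : Fact q.Prime := ⟨hq⟩
  let _iM : Module (ZMod q) V := AddCommGroup.zmodModule hexp
  refine CfsgLib.OddBase.exists_pair (fun G _ _ hG => Cfsg.Agent.S0205.result hG) hA ρ fun U hU => ?_
  exact CfsgLib.Coprime85.exists_invariant_compl_add q hqA (fun a => (ρ a : V →+ V))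
    (fun x => by rw [map_one]; rfl) (fun a b x => CfsgLib.OddBase.apply_mul ρ a b x) U hU

theorem based_of_oddCharBase (H : OddCharBase.{u}) {A : Type u} [Group A] [Finite A]
    (hsol : Group.IsSolvable A) {q : ℕ} [Fact q.Prime] (hq2 : q ≠ 2) (hqA : ¬ q ∣ Nat.card A)
    (V : Type u) [AddCommGroup V] [Finite V] [Module (ZMod q) V] (ρ : A →* AddMonoid.End V) :
    CfsgLib.OddBase.Based ρ := by
  let k : A ⧸ ρ.toHomUnits.ker →* AddMonoid.End V :=
    (Units.coeHom (AddMonoid.End V)).comp (QuotientGroup.kerLift ρ.toHomUnits)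
  let σ : Representation (ZMod q) (A ⧸ ρ.toHomUnits.ker) V := (toLin q V).comp k
  have hinj : Function.Injective σ := by
    intro r s h
    apply QuotientGroup.kerLift_injective ρ.toHomUnits
    exact Units.ext (DFunLike.ext _ _ fun v => LinearMap.congr_fun h v)
  have : Group.IsSolvable (A ⧸ ρ.toHomUnits.ker) :=
    have := hsol
    Group.isSolvable_of_surjective (QuotientGroup.mk'_surjective ρ.toHomUnits.ker)
  have hcop : (Nat.card (A ⧸ ρ.toHomUnits.ker)).Coprime (Nat.card V) := by
    rw [Module.natCard_eq_pow_finrank (K := ZMod q) (V := V), Nat.card_zmod]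
    refine (Nat.Coprime.coprime_dvd_left (Subgroup.card_quotient_dvd_card _) ?_).pow_right _
    exact ((Fact.out : q.Prime).coprime_iff_not_dvd.2 hqA).symm
  obtain ⟨x, y, h⟩ := H q hq2 _ V σ hinj hcop
  refine ⟨(x, y), fun a hx hy => ?_⟩
  have := h (QuotientGroup.mk a) hx hy
  exact congrArg Units.val (MonoidHom.mem_ker.1 ((QuotientGroup.eq_one_iff a).1 this))

theorem baseTwo_of_oddCharBase (H : OddCharBase.{u}) {A : Type u} [Group A] [Finite A]
    (hsol : Group.IsSolvable A) : BaseTwo A := by
  intro q hq hqA V _ _ hexp ρ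
  rcases eq_or_ne q 2 with rfl | hq2
  · exact baseTwo_of_odd (Nat.odd_iff.2 (Nat.two_dvd_ne_zero.1 hqA)) 2 hq hqA V hexp ρ
  exact @based_of_oddCharBase H A _ _ hsol q ⟨hq⟩ hq2 hqA V _ _ (AddCommGroup.zmodModule hexp) ρ

end CfsgLib.CoprimeMarks
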