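import Mathlib

/-!
Two finite sets labelled by subgroups with the same number of points above every subgroup have
the same number of points with each label.
-/

set_option autoImplicit false

namespace CfsgLib.CoprimeMarks

set_option linter.unusedSectionVars false

variable {A : Type*} [Group A] [Finite A] {X Y : Type*} [Finite X] [Finite Y]

theorem card_ge_eq_add (s : X → Subgroup A) (D : Subgroup A) :
    Nat.card {x // D ≤ s x} = Nat.card {x // s x = D} + Nat.card {x // D < s x} := by
  classical
  have := Fintype.ofFinite X
  simp only [Nat.card_eq_fintype_card, Fintype.card_subtype]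
  rw [← Finset.card_union_of_disjoint]
  · congr 1
    ext x
    simp only [Finset.mem_filter, Finset.mem_univ, true_and, Finset.mem_union]
    rw [le_iff_eq_or_lt]
    exact or_congr eq_comm Iff.rfl
  · rw [Finset.disjoint_filter]
    intro x _ h1 h2
    exact (h1 ▸ h2).ne rfl

theorem card_gt_eq_sum [Fintype (Subgroup A)] [DecidableLT (Subgroup A)] (s : X → Subgroup A) (D : Subgroup A) :
    Nat.card {x // D < s x} =
      ∑ E ∈ Finset.univ.filter (fun E => D < E), Nat.card {x // s x = E} := by
  classical
  have := Fintype.ofFinite X
  simp only [Nat.card_eq_fintype_card, Fintype.card_subtype]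
  rw [Finset.card_eq_sum_card_fiberwise (f := s) (t := Finset.univ.filter (fun E => D < E))
    (fun x hx => by simpa using hx)]
  refine Finset.sum_congr rfl fun E hE => ?_
  congr 1
  ext x
  simp only [Finset.mem_filter, Finset.mem_univ, true_and] at hE ⊢
  exact ⟨fun h => h.2, fun h => ⟨h ▸ hE, h⟩⟩

theorem card_eq_of_card_ge_eq (s : X → Subgroup A) (t : Y → Subgroup A)
    (h : ∀ D, Nat.card {x // D ≤ s x} = Nat.card {y // D ≤ t y}) :
    ∀ D, Nat.card {x // s x = D} = Nat.card {y // t y = D} := by
  classical
  have : Fintype (Subgroup A) := Fintype.ofFinite _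
  intro D
  induction D using WellFoundedGT.induction with
  | ind D ih =>
    have h1 := card_ge_eq_add s D
    have h2 := card_ge_eq_add t D
    have h3 : Nat.card {x // D < s x} = Nat.card {y // D < t y} := by
      rw [card_gt_eq_sum s D, card_gt_eq_sum t D]
      exact Finset.sum_congr rfl fun E hE => ih E (Finset.mem_filter.1 hE).2
    have := h D
    omega

/-- A label occurring in one set occurs in the other. -/
theorem exists_label (s : X → Subgroup A) (t : Y → Subgroup A)
    (h : ∀ D, Nat.card {x // D ≤ s x} = Nat.card {y // D ≤ t y}) (y : Y) :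
    ∃ x, s x = t y := by
  have hy : Nat.card {y' // t y' = t y} ≠ 0 := by
    have : Nonempty {y' // t y' = t y} := ⟨⟨y, rfl⟩⟩
    exact Nat.card_pos.ne'
  rw [← card_eq_of_card_ge_eq s t h] at hy
  obtain ⟨⟨x, hx⟩⟩ := (Nat.card_ne_zero.1 hy).1
  exact ⟨x, hx⟩

end CfsgLib.CoprimeMarks
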