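import Cfsg.Agent.Lib.CoprimeMarks.Base
import Cfsg.Agent.Lib.OddOrder.PiCore

/-!
Consequences of the fixed point count: two elements with trivial common stabiliser under a
coprime solvable action, and three Hall subgroups meeting in the core of a π-solvable group.
-/

set_option autoImplicit false
set_option linter.unusedSectionVars false

namespace CfsgLib.CoprimeMarks

open Subgroup
open scoped Pointwise

universe u u₁ u₂

theorem exists_pair_action {A : Type u₁} {K : Type u₂} [Group A] [Finite A] [Group K] [Finite K]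
    [MulDistribMulAction A K] [FaithfulSMul A K] (H : OddCharBase.{max u₁ u₂})
    (hA : Group.IsSolvable A) (hcop : (Nat.card A).Coprime (Nat.card K)) :
    ∃ x y : K, ∀ a : A, a • x = x → a • y = y → a = 1 := by
  let Γ := K ⋊[MulDistribMulAction.toMulAut A K] A
  have : Finite Γ := Finite.of_equiv _ SemidirectProduct.equivProd.symm
  let iK : K →* Γ := SemidirectProduct.inl
  let iA : A →* Γ := SemidirectProduct.inr
  have hconj : ∀ a k, iA a * iK k * (iA a)⁻¹ = iK (a • k) := fun a k => by
    rw [← map_inv]; exact (SemidirectProduct.inl_aut a k).symm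
  have hn : iA.range ≤ normalizer (iK.range : Set Γ) := by
    rintro _ ⟨a, rfl⟩
    refine mem_normalizer_iff.2 fun x => ⟨?_, ?_⟩
    · rintro ⟨k, rfl⟩
      exact ⟨a • k, (hconj a k).symm⟩
    · rintro ⟨k, hk⟩
      refine ⟨a⁻¹ • k, ?_⟩
      rw [← hconj, hk, map_inv, inv_inv]
      simp [mul_assoc]
  have hcA : Nat.card iA.range = Nat.card A :=
    Nat.card_range_of_injective SemidirectProduct.inr_injective
  have hcK : Nat.card iK.range = Nat.card K :=
    Nat.card_range_of_injective SemidirectProduct.inl_injective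
  have hsol : Group.IsSolvable iA.range :=
    have := hA
    Group.isSolvable_of_surjective iA.rangeRestrict_surjective
  obtain ⟨_, ⟨x, rfl⟩, _, ⟨y, rfl⟩, h⟩ := exists_pair iA.range iK.range hn (by rwa [hcA, hcK]) hsol
    (baseTwo_of_oddCharBase H hsol)
  have hcomm : ∀ a k, a • k = k → Commute (iA a) (iK k) := fun a k hk => by
    have := hconj a k
    rw [hk] at this
    exact mul_inv_eq_iff_eq_mul.1 this
  refine ⟨x, y, fun a hx hy => FaithfulSMul.eq_of_smul_eq_smul (α := K) fun k => ?_⟩
  have hc := mem_centralizer_iff.1 (h _ ⟨a, rfl⟩ (hcomm a x hx) (hcomm a y hy)) (iK k) ⟨k, rfl⟩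
  rw [one_smul]
  apply SemidirectProduct.inl_injective (φ := MulDistribMulAction.toMulAut A K)
  show iK (a • k) = iK k
  rw [← hconj, ← hc, mul_inv_cancel_right]

variable {G : Type u} [Group G] [Finite G]

theorem relIndex_dvd_inf (N T C : Subgroup G) [N.Normal] : N.relIndex (T ⊓ C) ∣ N.relIndex T := by
  have h1 := relIndex_dvd_index_of_normal (H := N.subgroupOf T) (K := (T ⊓ C).subgroupOf T)
  rwa [relIndex_subgroupOf inf_le_left] at h1

/-- A series whose factors are prime powers in π or π'-numbers. -/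
def PiSeries (π : Set ℕ) (G : Type u) [Group G] : Prop :=
  ∃ (n : ℕ) (N : Fin (n + 1) → Subgroup G), N 0 = ⊥ ∧ N (Fin.last n) = ⊤ ∧ Monotone N ∧
    (∀ i, (N i).Normal) ∧ ∀ i : Fin n,
      (∃ p ∈ π, p.Prime ∧ ∃ k : ℕ, (N i.castSucc).relIndex (N i.succ) = p ^ k) ∨
        (∀ q : ℕ, q.Prime → q ∣ (N i.castSucc).relIndex (N i.succ) → q ∉ π)

theorem PiSeries.quotient {π : Set ℕ} (h : PiSeries π G) (R : Subgroup G) [R.Normal] :
    PiSeries π (G ⧸ R) := by
  obtain ⟨n, N, h0, hl, hm, hn, hf⟩ := h
  refine ⟨n, fun i => (N i).map (QuotientGroup.mk' R), by simp [h0],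
    by simp only [hl]; exact map_top_of_surjective _ (QuotientGroup.mk'_surjective R),
    fun i j hij => map_mono (hm hij),
    fun i => (hn i).map _ (QuotientGroup.mk'_surjective R), fun i => ?_⟩
  have hdvd : ((N i.castSucc).map (QuotientGroup.mk' R)).relIndex ((N i.succ).map (QuotientGroup.mk' R)) ∣
      (N i.castSucc).relIndex (N i.succ) := by
    rw [relIndex_map_map, QuotientGroup.ker_mk']
    have := hn i.castSucc
    have e : N i.succ ⊔ R = N i.succ ⊔ (N i.castSucc ⊔ R) := by
      rw [← sup_assoc, sup_eq_left.2 (hm (Fin.castSucc_le_succ i))]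
    rw [e, relIndex_sup_right]
    exact relIndex_dvd_of_le_left (N i.succ) le_sup_left
  rcases hf i with ⟨p, hp, hpp, k, hk⟩ | hq
  · rw [hk] at hdvd
    obtain ⟨j, -, hj⟩ := (Nat.dvd_prime_pow hpp).1 hdvd
    exact Or.inl ⟨p, hp, hpp, j, hj⟩
  · exact Or.inr fun q hqp hd => hq q hqp (hd.trans hdvd)

theorem piCore_quotient (π : Set ℕ) :
    Cfsg.piCore π (G ⧸ Cfsg.piCore π G) = ⊥ := by
  set R := Cfsg.piCore π G
  set T := (Cfsg.piCore π (G ⧸ R)).comap (QuotientGroup.mk' R)
  have hT : T ≤ R := by
    refine CfsgLib.OddOrder.le_piCore inferInstance ?_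
    intro q hq hd
    have hc : Nat.card T = Nat.card R * Nat.card (Cfsg.piCore π (G ⧸ R)) := by
      let f : T →* Cfsg.piCore π (G ⧸ R) := (QuotientGroup.mk' R).subgroupComap _
      have hf : Function.Surjective f := by
        rintro ⟨y, hy⟩
        obtain ⟨x, rfl⟩ := QuotientGroup.mk'_surjective R y
        exact ⟨⟨x, hy⟩, rfl⟩
      have hker : Nat.card f.ker = Nat.card R := Nat.card_congr
        { toFun := fun x => ⟨((x : T) : G), (QuotientGroup.eq_one_iff _).1 (congrArg Subtype.val x.2)⟩
          invFun := fun x => ⟨⟨(x : G), by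
              show QuotientGroup.mk' R (x : G) ∈ Cfsg.piCore π (G ⧸ R)
              rw [QuotientGroup.mk'_apply, (QuotientGroup.eq_one_iff _).2 x.2]
              exact one_mem _⟩, Subtype.ext ((QuotientGroup.eq_one_iff _).2 x.2)⟩
          left_inv := fun _ => rfl
          right_inv := fun _ => rfl }
      rw [← f.ker.card_mul_index, hker, Subgroup.index_ker, f.range_eq_top.2 hf, card_top]
    rw [hc] at hd
    rcases hq.dvd_mul.1 hd with h | h
    · exact CfsgLib.OddOrder.piNat_card_piCore π q hq h
    · exact CfsgLib.OddOrder.piNat_card_piCore π q hq h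
  rw [eq_bot_iff]
  intro y hy
  obtain ⟨x, rfl⟩ := QuotientGroup.mk'_surjective R y
  exact mem_bot.2 ((QuotientGroup.eq_one_iff x).2 (hT hy))

/-- A π-subgroup of a group with such a series is solvable. -/
theorem PiSeries.isSolvable {π : Set ℕ} (h : PiSeries π G) (H : Subgroup G)
    (hH : ∀ p : ℕ, p.Prime → p ∣ Nat.card H → p ∈ π) : Group.IsSolvable H := by
  obtain ⟨n, N, h0, hl, hm, hn, hf⟩ := h
  suffices hs : ∀ i : Fin (n + 1), Group.IsSolvable ↥(N i ⊓ H) by
    have := hs (Fin.last n)
    rwa [hl, top_inf_eq] at this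
  intro i
  induction i using Fin.induction with
  | zero =>
    rw [h0, bot_inf_eq]
    infer_instance
  | succ i ih =>
    set S := N i.castSucc ⊓ H
    set T := N i.succ ⊓ H
    have := hn i.castSucc
    let M : Subgroup T := (N i.castSucc).subgroupOf T
    have hM : Group.IsSolvable M := by
      have := ih
      have hle : ∀ z : M, ((z : T) : G) ∈ S := fun z => ⟨z.2, (z : T).2.2⟩
      exact Group.isSolvable_of_isSolvable_injective
        (f := MonoidHom.codRestrict ((T.subtype).comp M.subtype) S hle)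
        (fun a b hab => Subtype.ext (Subtype.ext (congrArg (fun z : S => (z : G)) hab)))
    have hidx : M.index ∣ (N i.castSucc).relIndex (N i.succ) := by
      show (N i.castSucc).relIndex T ∣ _
      have h1 := relIndex_dvd_inf (N i.castSucc) (N i.succ) H
      exact h1
    have hH' : ∀ q : ℕ, q.Prime → q ∣ M.index → q ∈ π := fun q hq hd =>
      hH q hq ((hd.trans M.index_dvd_card).trans (card_dvd_of_le inf_le_right))
    have hQ : Group.IsSolvable (T ⧸ M) := by
      rcases hf i with ⟨p, hp, hpp, k, hk⟩ | hq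
      · have : Fact p.Prime := ⟨hpp⟩
        rw [hk] at hidx
        obtain ⟨j, -, hj⟩ := (Nat.dvd_prime_pow hpp).1 hidx
        have hP : IsPGroup p (T ⧸ M) := IsPGroup.of_card (n := j) hj
        have := hP.isNilpotent
        infer_instance
      · have h1 : M.index = 1 := by
          by_contra hne
          obtain ⟨q, hqp, hqd⟩ := Nat.exists_prime_and_dvd hne
          exact hq q hqp (hqd.trans hidx) (hH' q hqp hqd)
        have : Subsingleton (T ⧸ M) := (Nat.card_eq_one_iff_unique.1 h1).1
        infer_instance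
    exact Group.isSolvable_of_ker_le_range M.subtype (QuotientGroup.mk' M)
      (by rw [QuotientGroup.ker_mk', Subgroup.range_subtype])

theorem PiSeries.centralizer_le {π : Set ℕ} (h : PiSeries π G) (hR : Cfsg.piCore π G = ⊥) :
    centralizer (Cfsg.piCore πᶜ G : Set G) ≤ Cfsg.piCore πᶜ G := by
  obtain ⟨n, N, h0, hl, hm, hn, hf⟩ := h
  set K := Cfsg.piCore πᶜ G
  set C := centralizer (K : Set G)
  have hKn : K.Normal := inferInstance
  have hCn : C.Normal := inferInstance
  suffices hs : ∀ i : Fin (n + 1), N i ⊓ C ≤ K by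
    have := hs (Fin.last n)
    rwa [hl, top_inf_eq] at this
  intro i
  induction i using Fin.induction with
  | zero => rw [h0, bot_inf_eq]; exact bot_le
  | succ i ih =>
    set D := N i.succ ⊓ C
    have := hn i.succ
    have hDn : D.Normal := inferInstance
    let Z : Subgroup D := K.subgroupOf D
    have hZidx : Z.index ∣ (N i.castSucc).relIndex (N i.succ) := by
      show K.relIndex D ∣ _
      have h1 : (N i.castSucc).relIndex D ∣ (N i.castSucc).relIndex (N i.succ) :=
        have := hn i.castSucc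
        relIndex_dvd_inf (N i.castSucc) (N i.succ) C
      refine Dvd.dvd.trans ?_ h1
      rw [← inf_relIndex_right K D, ← inf_relIndex_right (N i.castSucc) D]
      refine relIndex_dvd_of_le_left D ?_
      exact le_inf ((inf_le_inf_left _ inf_le_right).trans ih) inf_le_right
    have hZcard : CfsgLib.OddOrder.PiNat πᶜ (Nat.card Z) :=
      (CfsgLib.OddOrder.piNat_card_piCore (G := G) πᶜ).dvd
        (card_dvd_of_injective (f := (D.subtype.comp Z.subtype).codRestrict K (fun z => z.2))
          (fun a b hab => Subtype.ext (Subtype.ext (congrArg (fun z : K => (z : G)) hab))))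
    rcases hf i with ⟨p, hp, hpp, k, hk⟩ | hq
    · have : Fact p.Prime := ⟨hpp⟩
      rw [hk] at hZidx
      obtain ⟨j, -, hj⟩ := (Nat.dvd_prime_pow hpp).1 hZidx
      have hcopZ : (Nat.card Z).Coprime (p ^ j) := by
        refine Nat.Coprime.pow_right _ (Nat.Coprime.symm ?_)
        exact hpp.coprime_iff_not_dvd.2 fun hd => hZcard p hpp hd hp
      let P : Sylow p D := default
      have hPcard : Nat.card (P : Subgroup D) = p ^ j := by
        have hDc : Nat.card D = Nat.card Z * p ^ j := by rw [← hj, Z.card_mul_index]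
        rw [P.card_eq_multiplicity, hDc,
          Nat.factorization_mul Nat.card_pos.ne' (pow_ne_zero _ hpp.ne_zero), Finsupp.add_apply,
          hpp.factorization_pow, Finsupp.single_eq_same,
          Nat.factorization_eq_zero_of_not_dvd fun hd => hZcard p hpp hd hp, zero_add]
      have hcompl : IsComplement' Z (P : Subgroup D) :=
        isComplement'_of_coprime (by rw [hPcard, ← hj, Z.card_mul_index]) (by rwa [hPcard])
      have hPn : (P : Subgroup D).Normal := by
        refine ⟨fun x hx g => ?_⟩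
        obtain ⟨⟨z, y⟩, rfl⟩ := hcompl.2 g
        have hcz : ∀ w : D, (z : D) * w = w * (z : D) := fun w => Subtype.ext
          (mem_centralizer_iff.1 w.2.2 _ (mem_subgroupOf.1 z.2))
        show (z : D) * (y : D) * x * ((z : D) * (y : D))⁻¹ ∈ (P : Subgroup D)
        have : (z : D) * (y : D) * x * ((z : D) * (y : D))⁻¹ = (y : D) * x * (y : D)⁻¹ := by
          calc (z : D) * (y : D) * x * ((z : D) * (y : D))⁻¹
              = (z : D) * ((y : D) * x * (y : D)⁻¹) * (z : D)⁻¹ := by group
            _ = ((y : D) * x * (y : D)⁻¹) * (z : D) * (z : D)⁻¹ := by rw [hcz]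
            _ = _ := mul_inv_cancel_right _ _
        rw [this]
        exact mul_mem (mul_mem y.2 hx) (inv_mem y.2)
      have := hPn
      have hPc : (P : Subgroup D).Characteristic := P.characteristic_of_normal hPn
      have hPG : ((P : Subgroup D).map D.subtype).Normal := inferInstance
      have hle : (P : Subgroup D).map D.subtype ≤ ⊥ := by
        rw [← hR]
        refine CfsgLib.OddOrder.le_piCore hPG ?_
        rw [Nat.card_congr ((P : Subgroup D).equivMapOfInjective _ D.subtype_injective).symm.toEquiv,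
          hPcard]
        intro q hq hd
        rwa [(Nat.prime_dvd_prime_iff_eq hq hpp).1 (hq.dvd_of_dvd_pow hd)]
      have hPb : (P : Subgroup D) = ⊥ := (map_eq_bot_iff_of_injective _ D.subtype_injective).1 (le_bot_iff.1 hle)
      rw [hPb] at hcompl
      have hZtop : Z = ⊤ := isComplement'_bot_right.1 hcompl
      exact subgroupOf_eq_top.1 hZtop
    · refine CfsgLib.OddOrder.le_piCore hDn fun q hqp hd => ?_
      rw [← Z.card_mul_index] at hd
      rcases hqp.dvd_mul.1 hd with h1 | h1
      · exact hZcard q hqp h1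
      · exact hq q hqp (h1.trans hZidx)

theorem exists_three_hall {π : Set ℕ} (hb : OddCharBase.{u}) (h : PiSeries π G) (H : Subgroup G)
    (hH : Cfsg.IsPiHall π H) :
    ∃ x y : G, H ⊓ MulAut.conj x • H ⊓ MulAut.conj y • H = Cfsg.piCore π G := by
  set R := Cfsg.piCore π G
  have hRH : R ≤ H := CfsgLib.OddOrder.le_of_isPiHallOf (M := ⊤) (π := π)
    ⟨le_top, hH.1, by simpa [relIndex_top_right] using hH.2⟩ le_top
    (by rw [normalizer_eq_top R]) (CfsgLib.OddOrder.piNat_card_piCore π)
  let q := QuotientGroup.mk' R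
  set Hb := H.map q
  set K := Cfsg.piCore πᶜ (G ⧸ R)
  have hHb : ∀ p : ℕ, p.Prime → p ∣ Nat.card Hb → p ∈ π := fun p hp hd =>
    hH.1 p hp (hd.trans (Subgroup.card_dvd_of_surjective (q.subgroupMap H) (q.subgroupMap_surjective H)))
  have hcop : (Nat.card Hb).Coprime (Nat.card K) :=
    CfsgLib.OddOrder.PiNat.coprime hHb fun p hp hpπ hd =>
      CfsgLib.OddOrder.piNat_card_piCore (G := G ⧸ R) πᶜ p hp hd hpπ
  have hQ := h.quotient R
  have hsol := hQ.isSolvable Hb hHb
  obtain ⟨x, hx, y, hy, hxy⟩ := exists_pair Hb K (by rw [normalizer_eq_top K]; exact le_top) hcop hsol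
    (baseTwo_of_oddCharBase hb hsol)
  have hdisj : ∀ {z : G ⧸ R}, z ∈ Hb → z ∈ K → z = 1 := fun {z} h1 h2 =>
    mem_bot.1 ((inf_eq_bot_of_coprime hcop).le ⟨h1, h2⟩)
  obtain ⟨x', rfl⟩ := QuotientGroup.mk'_surjective R x
  obtain ⟨y', rfl⟩ := QuotientGroup.mk'_surjective R y
  have hfix : ∀ {w : G}, q w ∈ K → ∀ {z : G}, z ∈ H → z ∈ MulAut.conj w • H →
      Commute (q z) (q w) := by
    intro w hw z hz hzw
    rw [mem_pointwise_smul_iff_inv_smul_mem, ← map_inv, MulAut.smul_def, MulAut.conj_apply,
      inv_inv] at hzw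
    have h1 : q z⁻¹ * q (w⁻¹ * z * w) = 1 := by
      refine hdisj (mul_mem ⟨z⁻¹, inv_mem hz, rfl⟩ ⟨_, hzw, rfl⟩) ?_
      have hKn : K.Normal := inferInstance
      have : q z⁻¹ * q (w⁻¹ * z * w) = ((q z)⁻¹ * (q w)⁻¹ * q z) * q w := by
        simp only [map_mul, map_inv]; group
      rw [this]
      refine mul_mem ?_ hw
      have h2 := hKn.conj_mem _ (inv_mem hw) (q z)⁻¹
      rwa [inv_inv] at h2
    simp only [map_mul, map_inv, inv_mul_eq_one] at h1
    show q z * q w = q w * q z
    nth_rw 2 [h1]
    group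
  refine ⟨x', y', le_antisymm ?_ ?_⟩
  · rintro z ⟨⟨hz, hzx⟩, hzy⟩
    have hc := hxy (q z) ⟨z, hz, rfl⟩ (hfix hx hz hzx) (hfix hy hz hzy)
    have hK := hQ.centralizer_le (piCore_quotient π) hc
    exact (QuotientGroup.eq_one_iff z).1 (hdisj ⟨z, hz, rfl⟩ hK)
  · have hn : R.Normal := inferInstance
    have key : ∀ w : G, R ≤ MulAut.conj w • H := by
      intro w z hz
      rw [mem_pointwise_smul_iff_inv_smul_mem, ← map_inv, MulAut.smul_def, MulAut.conj_apply, inv_inv]
      have := hn.conj_mem z hz w⁻¹
      rw [inv_inv] at this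
      exact hRH this
    exact le_inf (le_inf hRH (key x')) (key y')

end CfsgLib.CoprimeMarks
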