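import Mathlib

/-!
A coprime action on a p-group has the same fixed point numbers as an action on an elementary
abelian p-group.
-/

set_option autoImplicit false

namespace CfsgLib.CoprimeMarks

universe u

set_option linter.unusedSectionVars false

variable {A : Type*} [Group A] [Finite A]

/-- Fixed points of a set of operators. -/
def fixed {P : Type u} [Group P] [MulDistribMulAction A P] (D : Subgroup A) : Subgroup P where
  carrier := {x | ∀ d ∈ D, d • x = x}
  one_mem' := fun _ _ => smul_one _
  mul_mem' := fun {x y} hx hy d hd => by rw [smul_mul', hx d hd, hy d hd]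
  inv_mem' := fun {x} hx d hd => by rw [smul_inv', hx d hd]

theorem mem_fixed {P : Type u} [Group P] [MulDistribMulAction A P] {D : Subgroup A} {x : P} :
    x ∈ fixed D ↔ ∀ d ∈ D, d • x = x := Iff.rfl

/-- A fixed coset of an invariant abelian subgroup of coprime exponent has a fixed element. -/
theorem exists_fixed_in_coset {P : Type u} [Group P] [MulDistribMulAction A P] (D : Subgroup A)
    (N : Subgroup P) [IsMulCommutative N] (hN : ∀ a : A, ∀ x ∈ N, a • x ∈ N) {q : ℕ}
    (hq : ∀ x ∈ N, x ^ q = 1) (hq1 : 1 < q) (hcop : (Nat.card D).Coprime q) {x : P}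
    (hx : ∀ d ∈ D, x⁻¹ * d • x ∈ N) : ∃ n ∈ N, ∀ d ∈ D, d • (x * n) = x * n := by
  classical
  have := Fintype.ofFinite D
  let C : CommGroup N := { (inferInstance : Group N) with mul_comm := fun a b => mul_comm' a b }
  let f : D → N := fun d => ⟨x⁻¹ * (d : A) • x, hx d d.2⟩
  let act : D → N →* N := fun d =>
    { toFun := fun n => ⟨(d : A) • (n : P), hN d n n.2⟩
      map_one' := Subtype.ext (smul_one _)
      map_mul' := fun a b => Subtype.ext (smul_mul' _ _ _) }
  have hco : ∀ d e : D, f (d * e) = f d * act d (f e) := by
    intro d e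
    apply Subtype.ext
    show x⁻¹ * ((d : A) * (e : A)) • x = x⁻¹ * (d : A) • x * (d : A) • (x⁻¹ * (e : A) • x)
    rw [smul_mul' (d : A), smul_inv', mul_smul]
    group
  let n0 : N := ∏ e : D, f e
  have hn0 : ∀ d : D, n0 = f d ^ (Nat.card D) * act d n0 := by
    intro d
    calc n0 = ∏ e : D, f (d * e) := (Equiv.prod_comp (Equiv.mulLeft d) f).symm
      _ = ∏ e : D, f d * act d (f e) := by simp only [hco]
      _ = f d ^ (Nat.card D) * act d n0 := by
        rw [Finset.prod_mul_distrib, Finset.prod_const, Finset.card_univ, map_prod,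
          Nat.card_eq_fintype_card]
  obtain ⟨m, -, hm1⟩ := Nat.exists_mul_mod_eq_one_of_coprime hcop hq1
  have hm : ∀ z : N, z ^ (Nat.card D * m) = z := by
    intro z
    have hz : z ^ q = 1 := Subtype.ext (by simpa using hq z z.2)
    rw [pow_eq_pow_mod (Nat.card D * m) hz, hm1, pow_one]
  refine ⟨(n0 ^ m : N), (n0 ^ m).2, fun d hd => ?_⟩
  have key : n0 ^ m = f ⟨d, hd⟩ * act ⟨d, hd⟩ (n0 ^ m) := by
    conv_lhs => rw [hn0 ⟨d, hd⟩]
    rw [mul_pow, ← pow_mul, hm, map_pow]
  have key' := congrArg (Subtype.val : N → P) key
  rw [smul_mul']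
  calc d • x * d • ((n0 ^ m : N) : P) = x * ((x⁻¹ * d • x) * d • ((n0 ^ m : N) : P)) := by group
    _ = x * ((n0 ^ m : N) : P) := congrArg (x * ·) key'.symm

/-- The invariant elementary abelian subgroup of central elements of order dividing `q`. -/
def omegaCenter (q : ℕ) (P : Type u) [Group P] : Subgroup P where
  carrier := {z | z ∈ Subgroup.center P ∧ z ^ q = 1}
  one_mem' := ⟨one_mem _, one_pow _⟩
  mul_mem' := fun {a b} ha hb => ⟨mul_mem ha.1 hb.1, by
    rw [Commute.mul_pow (Subgroup.mem_center_iff.1 hb.1 a), ha.2, hb.2, one_mul]⟩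
  inv_mem' := fun {a} ha => ⟨inv_mem ha.1, by rw [inv_pow, ha.2, inv_one]⟩

instance omegaCenter_normal (q : ℕ) (P : Type u) [Group P] : (omegaCenter q P).Normal :=
  ⟨fun z hz g => by rw [(Subgroup.mem_center_iff.1 hz.1 g), mul_inv_cancel_right]; exact hz⟩

instance omegaCenter_comm (q : ℕ) (P : Type u) [Group P] : IsMulCommutative (omegaCenter q P) :=
  ⟨⟨fun a b => Subtype.ext (Subgroup.mem_center_iff.1 b.2.1 a)⟩⟩

theorem smul_omegaCenter {P : Type u} [Group P] [MulDistribMulAction A P] (q : ℕ) (a : A) {z : P}
    (hz : z ∈ omegaCenter q P) : a • z ∈ omegaCenter q P := by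
  refine ⟨Subgroup.mem_center_iff.2 fun g => ?_, by rw [← smul_pow', hz.2, smul_one]⟩
  have := congrArg (a • ·) (Subgroup.mem_center_iff.1 hz.1 (a⁻¹ • g))
  simpa [smul_mul'] using this

/-- The fixed point numbers of the action on `P` occur on an elementary abelian module. -/
theorem exists_model (q : ℕ) [hqf : Fact q.Prime] (hA : ¬ q ∣ Nat.card A) :
    ∀ (n : ℕ) (P : Type u) [Group P] [Finite P] [MulDistribMulAction A P], Nat.card P = n →
      IsPGroup q P → ∃ (V : Type u) (_ : AddCommGroup V) (_ : Finite V) (ρ : A →* AddMonoid.End V),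
        (∀ v : V, q • v = 0) ∧
        ∀ D : Subgroup A, Nat.card {v : V // ∀ d ∈ D, ρ d v = v} =
          Nat.card (fixed (P := P) D) := by
  intro n
  induction n using Nat.strong_induction_on with
  | _ n ih =>
    intro P _ _ _ hn hP
    classical
    rcases subsingleton_or_nontrivial P with h1 | h1
    · refine ⟨PUnit, inferInstance, inferInstance, 1, fun v => rfl, fun D => ?_⟩
      have : Nonempty {v : PUnit.{u+1} // ∀ d ∈ D, (1 : A →* AddMonoid.End PUnit.{u+1}) d v = v} :=
        ⟨⟨PUnit.unit, fun _ _ => rfl⟩⟩
      rw [Nat.card_unique, Nat.card_unique]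
    · let N := omegaCenter q P
      have hNne : N ≠ ⊥ := by
        have : Nontrivial (Subgroup.center P) := hP.center_nontrivial
        obtain ⟨k, hk⟩ := (hP.to_subgroup (Subgroup.center P)).exists_card_eq
        have hd : q ∣ Nat.card (Subgroup.center P) := by
          rw [hk]
          refine dvd_pow_self q fun h0 => ?_
          rw [h0, pow_zero] at hk
          exact Finite.one_lt_card.ne' hk
        obtain ⟨z, hz⟩ := exists_prime_orderOf_dvd_card' q hd
        intro hN
        have hzN : (z : P) ∈ N :=
          ⟨z.2, by rw [← Subgroup.coe_pow, ← hz, pow_orderOf_eq_one, Subgroup.coe_one]⟩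
        rw [hN, Subgroup.mem_bot] at hzN
        have : z = 1 := Subtype.ext hzN
        rw [this, orderOf_one] at hz
        exact hqf.out.one_lt.ne hz
      have hNinv : ∀ a : A, ∀ x ∈ N, a • x ∈ N := fun a x hx => smul_omegaCenter q a hx
      let qm : A → P ⧸ N →* P ⧸ N := fun a =>
        QuotientGroup.map N N (MulDistribMulAction.toMonoidHom P a) fun x hx => hNinv a x hx
      let _iq : MulDistribMulAction A (P ⧸ N) :=
        { smul := fun a x => qm a x
          one_smul := fun x => by
            induction x using QuotientGroup.induction_on with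
            | H x => exact congrArg _ (one_smul A x)
          mul_smul := fun a b x => by
            induction x using QuotientGroup.induction_on with
            | H x => exact congrArg _ (mul_smul a b x)
          smul_mul := fun a => map_mul (qm a)
          smul_one := fun a => map_one (qm a) }
      have hlt : Nat.card (P ⧸ N) < n := by
        rw [← hn, Subgroup.card_eq_card_quotient_mul_card_subgroup N]
        exact lt_mul_of_one_lt_right Nat.card_pos (Finite.one_lt_card_iff_nontrivial.2
          (N.nontrivial_iff_ne_bot.2 hNne))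
      obtain ⟨W, hWg, hWf, σ, hWq, hW⟩ := ih _ hlt (P ⧸ N) rfl (hP.to_quotient N)
      let Cn : CommGroup N := { (inferInstance : Group N) with mul_comm := fun a b => mul_comm' a b }
      let τ : A →* AddMonoid.End (Additive N) :=
        { toFun := fun a =>
            { toFun := fun v => Additive.ofMul ⟨a • (v.toMul : P), hNinv a _ v.toMul.2⟩
              map_zero' := congrArg Additive.ofMul (Subtype.ext (smul_one a))
              map_add' := fun v w => congrArg Additive.ofMul (Subtype.ext (smul_mul' a _ _)) }
          map_one' := AddMonoidHom.ext fun v => congrArg Additive.ofMul (Subtype.ext (one_smul A _))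
          map_mul' := fun a b =>
            AddMonoidHom.ext fun v => congrArg Additive.ofMul (Subtype.ext (mul_smul a b _)) }
      let ρ : A →* AddMonoid.End (Additive N × W) :=
        { toFun := fun a => AddMonoidHom.prodMap (τ a) (σ a)
          map_one' := by rw [map_one, map_one]; rfl
          map_mul' := fun a b => by rw [map_mul, map_mul]; rfl }
      refine ⟨Additive N × W, inferInstance, inferInstance, ρ, ?_, fun D => ?_⟩
      · rintro ⟨v, w⟩
        refine Prod.ext ?_ (hWq w)
        exact congrArg Additive.ofMul (Subtype.ext (a1 := (v.toMul : N) ^ q) (a2 := 1)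
          (by simpa using v.toMul.2.2))
      · have e : {v : Additive N × W // ∀ d ∈ D, ρ d v = v} ≃
            {v : Additive N // ∀ d ∈ D, τ d v = v} × {w : W // ∀ d ∈ D, σ d w = w} :=
          { toFun := fun v => (⟨v.1.1, fun d hd => congrArg Prod.fst (v.2 d hd)⟩,
              ⟨v.1.2, fun d hd => congrArg Prod.snd (v.2 d hd)⟩)
            invFun := fun v => ⟨(v.1.1, v.2.1), fun d hd => Prod.ext (v.1.2 d hd) (v.2.2 d hd)⟩
            left_inv := fun _ => rfl
            right_inv := fun _ => rfl }
        rw [Nat.card_congr e, Nat.card_prod, hW D]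
        let f : fixed (P := P) D →* P ⧸ N :=
          (QuotientGroup.mk' N).comp (fixed (P := P) D).subtype
        have hker : Nat.card f.ker = Nat.card {v : Additive N // ∀ d ∈ D, τ d v = v} :=
          Nat.card_congr
          { toFun := fun x => ⟨Additive.ofMul ⟨(x : P), (QuotientGroup.eq_one_iff _).1 x.2⟩,
              fun d hd => congrArg Additive.ofMul (Subtype.ext (x.1.2 d hd))⟩
            invFun := fun v => ⟨⟨(v.1.toMul : P), fun d hd =>
                congrArg (fun z : Additive N => (z.toMul : P)) (v.2 d hd)⟩,
              (QuotientGroup.eq_one_iff _).2 v.1.toMul.2⟩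
            left_inv := fun _ => rfl
            right_inv := fun _ => rfl }
        have hran : f.range = fixed (P := P ⧸ N) D := by
          ext y
          constructor
          · rintro ⟨x, rfl⟩ d hd
            exact congrArg (QuotientGroup.mk' N) (x.2 d hd)
          · intro hy
            induction y using QuotientGroup.induction_on with
            | H x =>
              have hcopD : (Nat.card D).Coprime q :=
                (hqf.out.coprime_iff_not_dvd.2 fun h => hA (h.trans (Subgroup.card_subgroup_dvd_card D))).symm
              obtain ⟨m, hmN, hm⟩ := exists_fixed_in_coset D N hNinv (fun z hz => hz.2)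
                hqf.out.one_lt hcopD (x := x) (fun d hd => QuotientGroup.eq.1 (hy d hd).symm)
              exact ⟨⟨x * m, hm⟩, by
                show ((x * m : P) : P ⧸ N) = x
                rw [QuotientGroup.eq]; simpa using N.inv_mem hmN⟩
        rw [← hker, ← hran, mul_comm, ← Subgroup.index_ker]
        exact f.ker.index_mul_card

end CfsgLib.CoprimeMarks
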