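import Cfsg.Agent.Lib.CoprimeMarks.Count
import Cfsg.Agent.Lib.CoprimeMarks.Model
import Cfsg.Agent.Lib.Coprime.Action
import Cfsg.Agent.Lib.OddBase.Basic

/-!
Coprime action on an arbitrary finite group: two elements whose common stabiliser centralises the
group, given two-vector bases for coprime elementary abelian modules.
-/

set_option autoImplicit false

namespace CfsgLib.CoprimeMarks

open Subgroup
open scoped Pointwise

universe u

/-- Every coprime action on an elementary abelian group has a base of two vectors. -/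
def BaseTwo (A : Type u) [Group A] : Prop :=
  ∀ q : ℕ, q.Prime → ¬ q ∣ Nat.card A → ∀ (V : Type u) [AddCommGroup V] [Finite V],
    (∀ v : V, q • v = 0) → ∀ ρ : A →* AddMonoid.End V, CfsgLib.OddBase.Based ρ

variable {Γ : Type u} [Group Γ] [Finite Γ]

theorem card_sylow_inf {A K : Subgroup Γ} (hAK : A ≤ normalizer (K : Set Γ))
    (hcop : (Nat.card A).Coprime (Nat.card K)) (hsol : Group.IsSolvable A) (q : ℕ) [Fact q.Prime]
    (P : Sylow q K) (hP : A ≤ normalizer ((P : Subgroup K).map K.subtype : Set Γ)) :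
    Nat.card ↥((P : Subgroup K).map K.subtype ⊓ centralizer (A : Set Γ)) =
      q ^ (Nat.card ↥(K ⊓ centralizer (A : Set Γ))).factorization q := by
  set Pm := (P : Subgroup K).map K.subtype
  set C := K ⊓ centralizer (A : Set Γ)
  have hPK : Pm ≤ K := map_subtype_le _
  have hPc : IsPGroup q ↥((Pm ⊓ centralizer (A : Set Γ)).subgroupOf C) := by
    refine IsPGroup.of_injective ((P.isPGroup'.map K.subtype).to_le inf_le_left)
      (subgroupOfEquivOfLe (inf_le_inf_right _ hPK)).toMonoidHom (MulEquiv.injective _)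
  obtain ⟨R, hR⟩ := hPc.exists_le_sylow
  set Rm := (R : Subgroup C).map C.subtype
  have hRC : Rm ≤ C := map_subtype_le _
  have hle : Pm ⊓ centralizer (A : Set Γ) ≤ Rm := by
    intro x hx
    exact ⟨⟨x, hPK hx.1, hx.2⟩, hR (mem_subgroupOf.2 hx), rfl⟩
  have hcard : Nat.card Rm = q ^ (Nat.card C).factorization q := by
    rw [← R.card_eq_multiplicity]
    exact Nat.card_congr ((R : Subgroup C).equivMapOfInjective _ C.subtype_injective).symm.toEquiv
  rw [← hcard]
  refine le_antisymm (Subgroup.card_le_of_le hle) ?_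
  have hRn : A ≤ normalizer (Rm : Set Γ) := by
    intro a ha
    refine Subgroup.centralizer_le_normalizer _ ?_
    exact mem_centralizer_iff.2 fun x hx => (mem_centralizer_iff.1 (hRC hx).2 a ha).symm
  obtain ⟨P', hRP', hP'⟩ := CfsgLib.Coprime.exists_invariant_sylow_ge A K hAK hcop (Or.inl hsol) q Rm
    (hRC.trans inf_le_left) (R.isPGroup'.map _) hRn
  obtain ⟨c, hc, hcP⟩ := CfsgLib.Coprime.invariant_sylow_conj A K hAK hcop (Or.inl hsol) q P P' hP hP'
  have hsub : Rm ≤ MulAut.conj (c : Γ) • (Pm ⊓ centralizer (A : Set Γ)) := by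
    intro x hx
    have h1 := hRP' hx
    rw [← hcP, CfsgLib.Coprime.mem_map_subtype_smul] at h1
    rw [mem_pointwise_smul_iff_inv_smul_mem, ← map_inv, MulAut.smul_def, MulAut.conj_apply, inv_inv]
    refine ⟨h1, ?_⟩
    exact (centralizer (A : Set Γ)).mul_mem ((centralizer (A : Set Γ)).mul_mem ((centralizer (A : Set Γ)).inv_mem hc) (hRC hx).2) hc
  refine (Subgroup.card_le_of_le hsub).trans (le_of_eq ?_)
  exact Nat.card_congr (Subgroup.equivSMul _ _).toEquiv.symm

theorem prod_pow_eq_of_dvd {m n : ℕ} (hn : n ≠ 0) (h : m ∣ n) :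
    ∏ q : ↥n.primeFactors, (q : ℕ) ^ m.factorization q = m := by
  rw [Finset.prod_coe_sort n.primeFactors fun q => q ^ m.factorization q]
  have hm : m ≠ 0 := fun h0 => hn (Nat.eq_zero_of_zero_dvd (h0 ▸ h))
  conv_rhs => rw [← Nat.prod_factorization_pow_eq_self hm]
  rw [Finsupp.prod, Nat.support_factorization]
  refine (Finset.prod_subset (Nat.primeFactors_mono h hn) fun q _ hq => ?_).symm
  rw [Finsupp.notMem_support_iff.1 (by rwa [Nat.support_factorization]), pow_zero]

/-- Two elements of `K` such that only operators centralising `K` fix both. -/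
theorem exists_pair (A K : Subgroup Γ) (hAK : A ≤ normalizer (K : Set Γ))
    (hcop : (Nat.card A).Coprime (Nat.card K)) (hsol : Group.IsSolvable A) (hb : BaseTwo A) :
    ∃ x ∈ K, ∃ y ∈ K, ∀ a ∈ A, Commute a x → Commute a y → a ∈ centralizer (K : Set Γ) := by
  classical
  let I := ↥(Nat.card K).primeFactors
  have : ∀ i : I, Fact (i : ℕ).Prime := fun i => ⟨Nat.prime_of_mem_primeFactors i.2⟩
  have hd : ∀ i : I, ¬ (i : ℕ) ∣ Nat.card A := fun i h =>
    (Nat.prime_of_mem_primeFactors i.2).ne_one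
      (Nat.eq_one_of_dvd_coprimes hcop h (Nat.dvd_of_mem_primeFactors i.2))
  choose P hP using fun i : I => CfsgLib.Coprime.exists_invariant_sylow A K hAK hcop (Or.inl hsol) i
  let Pm : I → Subgroup Γ := fun i => (P i : Subgroup K).map K.subtype
  have hPn : ∀ i, ∀ a ∈ A, ∀ x ∈ Pm i, a * x * a⁻¹ ∈ Pm i := fun i a ha x hx =>
    CfsgLib.Coprime.mem_normalizer_conj (hP i ha) hx
  let act : ∀ i, MulDistribMulAction A (Pm i) := fun i =>
    { smul := fun a x => ⟨(a : Γ) * x * (a : Γ)⁻¹, hPn i a a.2 x x.2⟩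
      one_smul := fun x => Subtype.ext (by show (1 : Γ) * x * (1 : Γ)⁻¹ = x; simp)
      mul_smul := fun a b x => Subtype.ext (by
        show ((a : Γ) * b) * x * ((a : Γ) * b)⁻¹ = a * ((b : Γ) * x * (b : Γ)⁻¹) * (a : Γ)⁻¹
        group)
      smul_mul := fun a x y => Subtype.ext (by
        show (a : Γ) * (x * y) * (a : Γ)⁻¹ = (a * x * (a : Γ)⁻¹) * (a * y * (a : Γ)⁻¹)
        group)
      smul_one := fun a => Subtype.ext (by show (a : Γ) * 1 * (a : Γ)⁻¹ = 1; simp) }
  have hPp : ∀ i : I, IsPGroup (i : ℕ) (Pm i) := fun i => (P i).isPGroup'.map K.subtype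
  choose V hVg hVf ρ hq hV using fun i : I => @exists_model A _ _ (i : ℕ) _ (hd i) _ (Pm i) _ _ (act i)
    rfl (hPp i)
  choose p hp using fun i : I => @hb (i : ℕ) (Nat.prime_of_mem_primeFactors i.2) (hd i) (V i) (hVg i)
    (hVf i) (hq i) (ρ i)
  let sK : K × K → Subgroup A := fun z =>
    { carrier := {a : A | Commute (a : Γ) z.1 ∧ Commute (a : Γ) z.2}
      one_mem' := ⟨Commute.one_left _, Commute.one_left _⟩
      mul_mem' := fun h h' => ⟨h.1.mul_left h'.1, h.2.mul_left h'.2⟩
      inv_mem' := fun h => ⟨h.1.inv_left, h.2.inv_left⟩ }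
  let sV : (∀ i, V i × V i) → Subgroup A := fun v =>
    { carrier := {a : A | ∀ i, ρ i a (v i).1 = (v i).1 ∧ ρ i a (v i).2 = (v i).2}
      one_mem' := fun i => by rw [map_one]; exact ⟨rfl, rfl⟩
      mul_mem' := fun {a b} h h' i => by
        rw [map_mul]
        exact ⟨(congrArg (ρ i a) (h' i).1).trans (h i).1, (congrArg (ρ i a) (h' i).2).trans (h i).2⟩
      inv_mem' := fun {a} h i =>
        ⟨by conv_lhs => rw [← (h i).1, CfsgLib.OddBase.apply_inv_apply],
         by conv_lhs => rw [← (h i).2, CfsgLib.OddBase.apply_inv_apply]⟩ }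
  have hfix : ∀ i, ∀ D : Subgroup A,
      Nat.card (@fixed A _ (Pm i) _ (act i) D) =
        Nat.card ↥(Pm i ⊓ centralizer ((D.map A.subtype : Subgroup Γ) : Set Γ)) := by
    intro i D
    refine Nat.card_congr
      { toFun := fun x => ⟨(x.1 : Γ), x.1.2, mem_centralizer_iff.2 ?_⟩
        invFun := fun x => ⟨⟨(x : Γ), x.2.1⟩, fun d hd => Subtype.ext ?_⟩
        left_inv := fun _ => rfl
        right_inv := fun _ => rfl }
    · rintro _ ⟨d, hd, rfl⟩
      exact mul_inv_eq_iff_eq_mul.1 (congrArg Subtype.val (x.2 d hd))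
    · exact mul_inv_eq_iff_eq_mul.2 (mem_centralizer_iff.1 x.2.2 d ⟨d, hd, rfl⟩)
  have hmarks : ∀ D : Subgroup A, ∏ i, Nat.card {v : V i // ∀ d ∈ D, ρ i d v = v} =
      Nat.card ↥(K ⊓ centralizer ((D.map A.subtype : Subgroup Γ) : Set Γ)) := by
    intro D
    have hDA : D.map A.subtype ≤ A := map_subtype_le _
    have hsD : Group.IsSolvable ↥(D.map A.subtype) :=
      have := hsol
      solvable_of_solvable_injective (Subgroup.inclusion_injective hDA)
    refine Eq.trans (Finset.prod_congr rfl fun i _ => ?_)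
      (prod_pow_eq_of_dvd Nat.card_pos.ne' (Subgroup.card_dvd_of_le inf_le_left))
    rw [hV i D, hfix i D]
    exact card_sylow_inf (hDA.trans hAK) (hcop.coprime_dvd_left (Subgroup.card_dvd_of_le hDA)) hsD i
      (P i) (hDA.trans (hP i))
  have hcards : ∀ D : Subgroup A, Nat.card {z : K × K // D ≤ sK z} =
      Nat.card {v : ∀ i, V i × V i // D ≤ sV v} := by
    intro D
    have e1 : {z : K × K // D ≤ sK z} ≃
        ↥(K ⊓ centralizer ((D.map A.subtype : Subgroup Γ) : Set Γ)) ×
          ↥(K ⊓ centralizer ((D.map A.subtype : Subgroup Γ) : Set Γ)) :=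
      { toFun := fun z => (⟨z.1.1, z.1.1.2, mem_centralizer_iff.2 (by
            rintro _ ⟨d, hd, rfl⟩; exact (z.2 hd).1)⟩,
          ⟨z.1.2, z.1.2.2, mem_centralizer_iff.2 (by rintro _ ⟨d, hd, rfl⟩; exact (z.2 hd).2)⟩)
        invFun := fun z => ⟨(⟨z.1, z.1.2.1⟩, ⟨z.2, z.2.2.1⟩), fun d hd =>
          ⟨mem_centralizer_iff.1 z.1.2.2 d ⟨d, hd, rfl⟩,
           mem_centralizer_iff.1 z.2.2.2 d ⟨d, hd, rfl⟩⟩⟩
        left_inv := fun _ => rfl
        right_inv := fun _ => rfl }
    have e2 : {v : ∀ i, V i × V i // D ≤ sV v} ≃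
        (∀ i, {v : V i // ∀ d ∈ D, ρ i d v = v} × {v : V i // ∀ d ∈ D, ρ i d v = v}) :=
      { toFun := fun v i => (⟨(v.1 i).1, fun d hd => (v.2 hd i).1⟩,
          ⟨(v.1 i).2, fun d hd => (v.2 hd i).2⟩)
        invFun := fun v => ⟨fun i => ((v i).1.1, (v i).2.1),
          fun d hd i => ⟨(v i).1.2 d hd, (v i).2.2 d hd⟩⟩
        left_inv := fun _ => rfl
        right_inv := fun _ => rfl }
    rw [Nat.card_congr e1, Nat.card_congr e2, Nat.card_prod, Nat.card_pi]
    simp only [Nat.card_prod]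
    rw [Finset.prod_mul_distrib, hmarks D]
  obtain ⟨⟨x, y⟩, hxy⟩ := exists_label sK sV hcards p
  refine ⟨x, x.2, y, y.2, fun a ha hx hy => ?_⟩
  have hmem : (⟨a, ha⟩ : A) ∈ sV p := hxy ▸ (⟨hx, hy⟩ : (⟨a, ha⟩ : A) ∈ sK (x, y))
  have hone : ∀ i, ρ i ⟨a, ha⟩ = 1 := fun i => hp i ⟨a, ha⟩ (hmem i).1 (hmem i).2
  have hall : ∀ i, Pm i ≤ centralizer ({a} : Set Γ) := by
    intro i z hz
    let D : Subgroup A := zpowers ⟨a, ha⟩
    have hD : ∀ d ∈ D, ρ i d = 1 := fun d hd => by
      have hle : D ≤ (ρ i).toHomUnits.ker := zpowers_le.2 (Units.ext (hone i))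
      exact congrArg Units.val (MonoidHom.mem_ker.1 (hle hd))
    have h1 : Nat.card (@fixed A _ (Pm i) _ (act i) D) = Nat.card (V i) := by
      rw [← hV i D]
      exact Nat.card_congr (Equiv.subtypeUnivEquiv fun v d hd => by rw [hD d hd]; rfl)
    have h2 : Nat.card (@fixed A _ (Pm i) _ (act i) ⊥) = Nat.card (V i) := by
      rw [← hV i ⊥]
      exact Nat.card_congr (Equiv.subtypeUnivEquiv fun v d hd => by
        rw [Subgroup.mem_bot.1 hd, map_one]; rfl)
    have hbot : (@fixed A _ (Pm i) _ (act i) ⊥) = ⊤ := by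
      rw [eq_top_iff]
      intro w _ d hd
      rw [Subgroup.mem_bot.1 hd]
      exact (act i).one_smul w
    rw [hbot, Subgroup.card_top] at h2
    have htop := Subgroup.eq_top_of_card_eq _ (h1.trans h2.symm)
    have hfz : (⟨z, hz⟩ : Pm i) ∈ (@fixed A _ (Pm i) _ (act i) D) := htop ▸ mem_top _
    rw [mem_centralizer_singleton_iff]
    exact (mul_inv_eq_iff_eq_mul.1 (congrArg Subtype.val (hfz _ (mem_zpowers _)))).symm
  have hKC : K ⊓ centralizer ({a} : Set Γ) = K := by
    refine Subgroup.eq_of_le_of_card_ge inf_le_left (Nat.le_of_dvd Nat.card_pos ?_)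
    rw [← Nat.factorization_le_iff_dvd Nat.card_pos.ne' Nat.card_pos.ne']
    intro q
    by_cases hqm : q ∈ (Nat.card K).primeFactors
    · let i : I := ⟨q, hqm⟩
      have := Subgroup.card_dvd_of_le (le_inf (map_subtype_le _) (hall i) :
        Pm i ≤ K ⊓ centralizer ({a} : Set Γ))
      have hc : Nat.card (Pm i) = q ^ (Nat.card K).factorization q :=
        (Nat.card_congr ((P i : Subgroup K).equivMapOfInjective _ K.subtype_injective).symm.toEquiv).trans
          (P i).card_eq_multiplicity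
      rw [hc] at this
      exact ((Nat.prime_of_mem_primeFactors hqm).pow_dvd_iff_le_factorization Nat.card_pos.ne').1 this
    · rw [Finsupp.notMem_support_iff.1 (by rwa [Nat.support_factorization])]
      exact Nat.zero_le _
  exact mem_centralizer_iff.2 fun k hk => (mem_centralizer_singleton_iff.1
    ((hKC.ge hk).2 : k ∈ centralizer ({a} : Set Γ)))

end CfsgLib.CoprimeMarks
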